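import Cfsg.Agent.Lyons.ArithSpec

/-!
Piece L6: no data with the cyclic group of order five acting (notes/lyons_v1.md, section 6).

For a row put `q = d 0`, `s = d 1 + d 4`, `t = d 2 + d 3`, `S = s + t`.  The form `quad` summed over all rows is
`2888`, the second form `lin` weighted by `d_z² / x` is `-2936`; each row makes the combination non-negative, as a
row in an orbit of `n` rows has `n * gram ≤ 752`.
-/

set_option autoImplicit false

namespace Cfsg.Lib.Lyons.Five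

open Finset

/-- The adjugate of the moments of `(p, q, S)`, determinant `752`. -/
def gram (p q S : ℤ) : ℤ := 51 * p * p + 26 * p * q - 6 * p * S + 195 * q * q - 90 * q * S + 14 * S * S

/-- The quadratic part of the certificate. -/
def quad (p q s t : ℤ) : ℤ :=
  40 * p * p + 20 * q * q + 12 * (s + t) * (s + t) - 3 * s * t + 124 * p * q - 43 * p * (s + t) - 5 * q * (s + t)

/-- The part of the certificate divided by the degree. -/
def lin (p q S : ℤ) : ℤ := 936 * p - 500 * (S - 4 * q)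

/-- A lower bound for the number of rows in an orbit. -/
def orb (s t : ℤ) : ℤ := if s % 2 = 0 ∧ t % 2 = 0 then (if s = t then 1 else 2) else 4

/-- A lower bound for the degree. -/
def low (p dz J : ℤ) : ℤ := 4 * p - 3 * dz + 64 * (max (max 0 (-p)) ((dz - p + 15) / 16) + J)

/-- What is checked for a row. -/
def check (p q s t : ℤ) : Bool :=
  decide ((q + s + t - p) % 4 ≠ 0) || decide (752 < orb s t * gram p q (s + t)) ||
    (decide (0 ≤ quad p q s t) &&
      decide (0 ≤ low p (q + s + t) 2 * quad p q s t + (q + s + t) * (q + s + t) * lin p q (s + t)) &&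
      (decide (752 < 4 * gram p q (s + t)) ||
        decide (0 ≤ low p (q + s + t) 1 * quad p q s t + (q + s + t) * (q + s + t) * lin p q (s + t))))

theorem check_all : ∀ p : Fin 7, ∀ q : Fin 7, ∀ s : Fin 17, ∀ t : Fin 17,
    check ((p : ℕ) - 3) ((q : ℕ) - 3) ((s : ℕ) - 8) ((t : ℕ) - 8) = true := by
  decide +kernel

theorem check_of_bounds {p q s t : ℤ} (hp : -3 ≤ p ∧ p ≤ 3) (hq : -3 ≤ q ∧ q ≤ 3) (hs : -8 ≤ s ∧ s ≤ 8)
    (ht : -8 ≤ t ∧ t ≤ 8) : check p q s t = true := by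
  have h := check_all ⟨(p + 3).toNat, by omega⟩ ⟨(q + 3).toNat, by omega⟩ ⟨(s + 8).toNat, by omega⟩
    ⟨(t + 8).toNat, by omega⟩
  simp only at h
  rwa [show (((p + 3).toNat : ℕ) : ℤ) - 3 = p by omega, show (((q + 3).toNat : ℕ) : ℤ) - 3 = q by omega,
    show (((s + 8).toNat : ℕ) : ℤ) - 8 = s by omega, show (((t + 8).toNat : ℕ) : ℤ) - 8 = t by omega] at h

theorem sum_five (f : ZMod 5 → ℤ) : ∑ c, f c = f 0 + f 1 + f 2 + f 3 + f 4 := Fin.sum_univ_five f

universe u

variable {ι : Type u} [Fintype ι] (D : RowsFive ι)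

/-- `d 1 + d 4`. -/
def sd (i : ι) : ℤ := D.d i 1 + D.d i 4

/-- `d 2 + d 3`. -/
def td (i : ι) : ℤ := D.d i 2 + D.d i 3

/-- The value at the central involution. -/
def dz (i : ι) : ℤ := ∑ c, D.d i c

theorem dz_eq (i : ι) : dz D i = D.d i 0 + sd D i + td D i := by
  rw [dz, sum_five, sd, td]; ring

theorem moments :
    ∑ i, D.p i * D.p i = 15 ∧ ∑ i, D.p i * D.d i 0 = -1 ∧ ∑ i, D.p i * (sd D i + td D i) = 0 ∧
    ∑ i, D.d i 0 * D.d i 0 = 15 ∧ ∑ i, D.d i 0 * (sd D i + td D i) = 48 ∧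
    ∑ i, (sd D i + td D i) * (sd D i + td D i) = 208 ∧ ∑ i, sd D i * td D i = 48 := by
  refine ⟨D.orth_pp, by simpa using D.orth_pd 0, ?_, by simpa using D.orth_dd 0 0, ?_, ?_, ?_⟩
  all_goals simp only [sd, td, mul_add, add_mul, Finset.sum_add_distrib, D.orth_pd, D.orth_dd]
  all_goals decide

/-- Rows with the same symmetric part satisfy the Gram bound together. -/
theorem gram_le (i : ι) (T : Finset ι)
    (hT : ∀ j ∈ T, D.p j = D.p i ∧ D.d j 0 = D.d i 0 ∧ sd D j + td D j = sd D i + td D i) :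
    (T.card : ℤ) * gram (D.p i) (D.d i 0) (sd D i + td D i) ≤ 752 := by
  obtain ⟨h1, h2, h3, h4, h5, h6, -⟩ := moments D
  set p := D.p i
  set q := D.d i 0
  set S := sd D i + td D i
  set a := 51 * p + 13 * q - 3 * S with ha
  set b := 13 * p + 195 * q - 45 * S with hb
  set c := -3 * p - 45 * q + 14 * S with hc
  let w : ι → ℤ := fun j => a * D.p j + b * D.d j 0 + c * (sd D j + td D j)
  have htot : ∑ j, w j * w j = 752 * gram p q S := by
    have : ∀ j, w j * w j = a * a * (D.p j * D.p j) + 2 * a * b * (D.p j * D.d j 0) +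
        2 * a * c * (D.p j * (sd D j + td D j)) + b * b * (D.d j 0 * D.d j 0) +
        2 * b * c * (D.d j 0 * (sd D j + td D j)) + c * c * ((sd D j + td D j) * (sd D j + td D j)) :=
      fun j => by simp only [w]; ring
    simp only [this, Finset.sum_add_distrib, ← Finset.mul_sum, h1, h2, h3, h4, h5, h6, ha, hb, hc, gram]
    ring
  have hle : ∑ j ∈ T, w j * w j ≤ ∑ j, w j * w j :=
    Finset.sum_le_univ_sum_of_nonneg fun j => mul_self_nonneg _
  have hw : ∀ j ∈ T, w j * w j = gram p q S * gram p q S := fun j hj => by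
    obtain ⟨e1, e2, e3⟩ := hT j hj
    simp only [w, e1, e2, e3, gram]
    ring
  rw [Finset.sum_congr rfl hw, Finset.sum_const, nsmul_eq_mul, htot] at hle
  rcases le_or_gt (gram p q S) 0 with hg | hg
  · nlinarith
  · exact le_of_mul_le_mul_right (by rw [mul_assoc]; exact hle) hg

/-- The orbit of a row is as large as its parities ask. -/
theorem orb_le (i : ι) : ∃ T : Finset ι, orb (sd D i) (td D i) ≤ T.card ∧
    ∀ j ∈ T, D.p j = D.p i ∧ D.d j 0 = D.d i 0 ∧ sd D j + td D j = sd D i + td D i := by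
  classical
  obtain ⟨j₁, -, p₁, e₁⟩ := D.galois i
  obtain ⟨j₂, -, p₂, e₂⟩ := D.galois j₁
  obtain ⟨j₃, -, p₃, e₃⟩ := D.galois j₂
  have z1 : D.d j₁ 0 = D.d i 0 := by simpa using e₁ 0
  have z2 : D.d j₂ 0 = D.d j₁ 0 := by simpa using e₂ 0
  have z3 : D.d j₃ 0 = D.d j₂ 0 := by simpa using e₃ 0
  have a1 : D.d j₁ 2 = D.d i 1 ∧ D.d j₁ 4 = D.d i 2 ∧ D.d j₁ 1 = D.d i 3 ∧ D.d j₁ 3 = D.d i 4 :=
    ⟨e₁ 1, e₁ 2, e₁ 3, e₁ 4⟩
  have a2 : D.d j₂ 2 = D.d j₁ 1 ∧ D.d j₂ 4 = D.d j₁ 2 ∧ D.d j₂ 1 = D.d j₁ 3 ∧ D.d j₂ 3 = D.d j₁ 4 :=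
    ⟨e₂ 1, e₂ 2, e₂ 3, e₂ 4⟩
  have a3 : D.d j₃ 2 = D.d j₂ 1 ∧ D.d j₃ 4 = D.d j₂ 2 ∧ D.d j₃ 1 = D.d j₂ 3 ∧ D.d j₃ 3 = D.d j₂ 4 :=
    ⟨e₃ 1, e₃ 2, e₃ 3, e₃ 4⟩
  have hall : ∀ j ∈ ({i, j₁, j₂, j₃} : Finset ι),
      D.p j = D.p i ∧ D.d j 0 = D.d i 0 ∧ sd D j + td D j = sd D i + td D i := by
    intro j hj
    simp only [Finset.mem_insert, Finset.mem_singleton] at hj
    rcases hj with rfl | rfl | rfl | rfl <;> refine ⟨?_, ?_, ?_⟩ <;> first | omega | (simp only [sd, td]; omega)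
  have hne : ∀ {j k : ι}, j = k → D.d j 1 = D.d k 1 ∧ D.d j 2 = D.d k 2 ∧ D.d j 3 = D.d k 3 ∧ D.d j 4 = D.d k 4 :=
    fun e => by rw [e]; exact ⟨rfl, rfl, rfl, rfl⟩
  rw [orb]
  split_ifs with h2 h1
  · exact ⟨{i}, by simp, fun j hj => hall j (by simp_all)⟩
  · refine ⟨{i, j₁}, ?_, fun j hj => hall j (by simp_all; tauto)⟩
    rw [Finset.card_pair]
    · norm_num
    · intro e; have := hne e; simp only [sd, td] at h1; omega
  · refine ⟨{i, j₁, j₂, j₃}, le_of_eq ?_, hall⟩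
    have h : ¬ (D.d i 1 = D.d i 4 ∧ D.d i 2 = D.d i 3) := fun h => h2 (by simp only [sd, td]; omega)
    have n1 : i ≠ j₁ := fun e => h (by have := hne e; omega)
    have n2 : i ≠ j₂ := fun e => h (by have := hne e; omega)
    have n3 : i ≠ j₃ := fun e => h (by have := hne e; omega)
    have n4 : j₁ ≠ j₂ := fun e => h (by have := hne e; omega)
    have n5 : j₁ ≠ j₃ := fun e => h (by have := hne e; omega)
    have n6 : j₂ ≠ j₃ := fun e => h (by have := hne e; omega)
    simp [n1, n2, n3, n4, n5, n6]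

theorem sq_le {a : ℤ} {n : ℕ} (h : a * a < (n + 1 : ℤ) * (n + 1)) : -(n : ℤ) ≤ a ∧ a ≤ n := by
  constructor <;> nlinarith

/-- The certificate at one row. -/
theorem row_nonneg (i : ι) : 0 ≤ (quad (D.p i) (D.d i 0) (sd D i) (td D i) : ℚ) +
    (dz D i : ℚ) ^ 2 * (lin (D.p i) (D.d i 0) (sd D i + td D i) : ℚ) / (D.x i : ℚ) := by
  obtain ⟨M, R, J, hJ, hx, hp, -, hM, hrep⟩ := D.shape i
  have bnd : ∀ b, -4 ≤ D.d i b ∧ D.d i b ≤ 4 := fun b => by
    refine sq_le (n := 4) (lt_of_le_of_lt (le_of_le_of_eq (Finset.single_le_sum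
      (fun j _ => mul_self_nonneg (D.d j b)) (Finset.mem_univ i)) (D.orth_dd b b)) ?_)
    split_ifs <;> norm_num
  have hpb : -3 ≤ D.p i ∧ D.p i ≤ 3 := sq_le (n := 3) (lt_of_le_of_lt (le_of_le_of_eq (Finset.single_le_sum
    (fun j _ => mul_self_nonneg (D.p j)) (Finset.mem_univ i)) D.orth_pp) (by norm_num))
  have hqb : -3 ≤ D.d i 0 ∧ D.d i 0 ≤ 3 := sq_le (n := 3) (lt_of_le_of_lt (le_of_le_of_eq (Finset.single_le_sum
    (fun j _ => mul_self_nonneg (D.d j 0)) (Finset.mem_univ i)) (D.orth_dd 0 0)) (by norm_num))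
  have hc := check_of_bounds (p := D.p i) (q := D.d i 0) (s := sd D i) (t := td D i) hpb hqb
    (by have := bnd 1; have := bnd 4; simp only [sd]; omega)
    (by have := bnd 2; have := bnd 3; simp only [td]; omega)
  change (D.x i : ℤ) = dz D i + 16 * M + 64 * J at hx
  change D.p i = dz D i - 16 * R + 4 * M at hp
  have hM' : (M : ℤ) ≤ dz D i + 5 * M - 15 * R := by
    refine le_of_le_of_eq hM ?_
    rw [dz, sum_five, sum_five]; ring
  have hz := dz_eq D i
  obtain ⟨T, hT, hTrows⟩ := orb_le D i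
  have hg := gram_le D i T hTrows
  set p := D.p i
  set q := D.d i 0
  set s := sd D i
  set t := td D i
  simp only [check, Bool.or_eq_true, Bool.and_eq_true, decide_eq_true_eq] at hc
  rw [← hz] at hc
  have hlow : ∀ K : ℤ, K ≤ J → low p (dz D i) K ≤ (D.x i : ℤ) := fun K hK => by
    rw [low]; omega
  rcases hc with (hc | hc) | ⟨⟨hk, hc2⟩, hc1⟩
  · exact absurd (by omega) hc
  · exfalso
    rcases le_or_gt (gram p q (s + t)) 0 with h0 | h0
    · have : 0 ≤ orb s t := by rw [orb]; split_ifs <;> norm_num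
      nlinarith
    · nlinarith
  have hxnum : 0 ≤ (D.x i : ℤ) * quad p q s t + dz D i * dz D i * lin p q (s + t) := by
    rcases le_or_gt 2 J with hJ2 | hJ1
    · have := mul_le_mul_of_nonneg_right (hlow 2 (by omega)) hk
      linarith
    · have hJ1 : J = 1 := by omega
      rcases hc1 with hc1 | hc1
      · exfalso
        obtain ⟨U, hU, hUrows⟩ := hrep hJ1
        have hgU := gram_le D i U fun j hj => by
          obtain ⟨hpj, k, hk⟩ := hUrows j hj
          have h0 : D.d j 0 = D.d i 0 := by simpa using hk 0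
          refine ⟨hpj, h0, ?_⟩
          have hs : dz D j = dz D i :=
            (Equiv.sum_comp k.mulLeft (D.d j)).symm.trans (Finset.sum_congr rfl fun b _ => hk b)
          rw [dz_eq, dz_eq] at hs
          omega
        have hU' : (4 : ℤ) ≤ U.card := by exact_mod_cast hU
        rcases le_or_gt (gram p q (s + t)) 0 with h0 | h0
        · linarith
        · nlinarith
      · have := mul_le_mul_of_nonneg_right (hlow 1 (by omega)) hk
        linarith
  rcases Nat.eq_zero_or_pos (D.x i) with hx0 | hx0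
  · rw [hx0, Nat.cast_zero, div_zero, add_zero]; exact_mod_cast hk
  · have hxq : (0 : ℚ) < (D.x i : ℚ) := by exact_mod_cast hx0
    have hq : (0 : ℚ) ≤ (D.x i : ℚ) * (quad p q s t : ℚ) + (dz D i : ℚ) * dz D i * (lin p q (s + t) : ℚ) := by
      exact_mod_cast hxnum
    have : (quad p q s t : ℚ) + (dz D i : ℚ) ^ 2 * (lin p q (s + t) : ℚ) / (D.x i : ℚ) =
        ((D.x i : ℚ) * (quad p q s t : ℚ) + (dz D i : ℚ) * dz D i * (lin p q (s + t) : ℚ)) / (D.x i : ℚ) := by
      field_simp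
    rw [this]
    exact div_nonneg hq hxq.le

/-- No such data. -/
theorem certSpec : CertSpec.{u} := by
  intro ι _ D
  obtain ⟨h1, h2, h3, h4, h5, h6, h7⟩ := moments D
  have hpos : (0 : ℚ) ≤ ∑ i, ((quad (D.p i) (D.d i 0) (sd D i) (td D i) : ℚ) +
      (dz D i : ℚ) ^ 2 * (lin (D.p i) (D.d i 0) (sd D i + td D i) : ℚ) / (D.x i : ℚ)) :=
    Finset.sum_nonneg fun i _ => row_nonneg D i
  have hquad : ∑ i, quad (D.p i) (D.d i 0) (sd D i) (td D i) = 2888 := by
    have : ∀ i, quad (D.p i) (D.d i 0) (sd D i) (td D i) = 40 * (D.p i * D.p i) + 20 * (D.d i 0 * D.d i 0) +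
        12 * ((sd D i + td D i) * (sd D i + td D i)) - 3 * (sd D i * td D i) + 124 * (D.p i * D.d i 0) -
        43 * (D.p i * (sd D i + td D i)) - 5 * (D.d i 0 * (sd D i + td D i)) := fun i => by rw [quad]; ring
    simp only [this, Finset.sum_add_distrib, Finset.sum_sub_distrib, ← Finset.mul_sum, h1, h2, h3, h4, h5, h6, h7]
    norm_num
  have hlin : ∑ i, (dz D i : ℚ) ^ 2 * (lin (D.p i) (D.d i 0) (sd D i + td D i) : ℚ) / (D.x i : ℚ) = -2936 := by
    let g : ZMod 5 → ι → ℚ := fun b i => ((∑ c, D.d i c : ℤ) : ℚ) ^ 2 * (D.d i b - D.d i 0) / (D.x i : ℚ)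
    let a : ι → ℚ := fun i => ((∑ c, D.d i c : ℤ) : ℚ) ^ 2 * D.p i / (D.x i : ℚ)
    have ha : ∑ i, a i = -1 := by rw [← D.count_a]
    have hg : ∀ b, b ≠ 0 → ∑ i, g b i = 1 := fun b hb => by rw [← D.count_z b hb]
    have : ∀ i, (dz D i : ℚ) ^ 2 * (lin (D.p i) (D.d i 0) (sd D i + td D i) : ℚ) / (D.x i : ℚ) =
        936 * a i - 500 * (g 1 i + g 2 i + g 3 i + g 4 i) := fun i => by
      simp only [a, g, lin, dz, sd, td]
      push_cast
      ring
    simp only [this, Finset.sum_sub_distrib, Finset.sum_add_distrib, ← Finset.mul_sum, ha,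
      hg 1 (by decide), hg 2 (by decide), hg 3 (by decide), hg 4 (by decide)]
    norm_num
  rw [Finset.sum_add_distrib, hlin, ← Int.cast_sum, hquad] at hpos
  norm_num at hpos

end Cfsg.Lib.Lyons.Five
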