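import Cfsg.Agent.Lyons.ArithSpec

/-!
Piece L3: no data with the group of automorphisms of order one (notes/lyons_v1.md, section 3).

`p i j = P - 4 c j` with `P = ∑ c j`, and the vectors `c` have Gram matrix `2 J + I`: two rows supported on all five
classes and five on one.  Hence `∑ d² |P| ≤ 55 < 60`, against the count.
-/

set_option autoImplicit false

namespace Cfsg.Lib.Lyons.One

open Finset

theorem small {a b c : ℤ} (hsq : 5 * (a * a) + b * b + c * c ≤ 63) (h : a + b + c = -1) (hb : b % 4 = 1)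
    (hc : c % 4 = 1) : a * a + b * b + c * c ≤ 11 := by
  have : -3 ≤ a ∧ a ≤ 3 := ⟨by nlinarith, by nlinarith⟩
  have : -7 ≤ b ∧ b ≤ 7 := ⟨by nlinarith, by nlinarith⟩
  have : -7 ≤ c ∧ c ≤ 7 := ⟨by nlinarith, by nlinarith⟩
  obtain ⟨b', rfl⟩ : ∃ k, b = 4 * k + 1 := ⟨b / 4, by omega⟩
  obtain ⟨c', rfl⟩ : ∃ k, c = 4 * k + 1 := ⟨c / 4, by omega⟩
  obtain rfl : a = -3 - 4 * b' - 4 * c' := by omega
  have : -2 ≤ b' ∧ b' ≤ 1 := by omega
  have : -2 ≤ c' ∧ c' ≤ 1 := by omega
  obtain ⟨h1, h2⟩ := ‹-2 ≤ b' ∧ b' ≤ 1›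
  obtain ⟨h3, h4⟩ := ‹-2 ≤ c' ∧ c' ≤ 1›
  interval_cases b' <;> interval_cases c' <;> omega

universe u

variable {ι : Type u} [Fintype ι]

/-- The block sizes: two rows on all five classes, the others on one. -/
theorem sizes {T : ℕ → Fin 5 → ℕ} {a : ℕ → ℕ} (hT : ∀ m, ∑ j, T m j = m * a m) (h5 : ∀ j, T 5 j = a 5)
    (h3 : ∀ j, T 1 j + T 2 j + T 3 j + T 4 j + T 5 j = 3)
    (h11 : ∀ j, T 1 j + 2 * T 2 j + 3 * T 3 j + 4 * T 4 j + 5 * T 5 j = 11) :
    a 5 = 2 ∧ ∀ j, T 1 j = 1 ∧ T 2 j = 0 ∧ T 3 j = 0 ∧ T 4 j = 0 := by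
  have s2 := hT 2
  have s3 := hT 3
  have s4 := hT 4
  have hle : a 5 ≤ 2 := by
    have := h11 0
    rw [h5] at this
    omega
  -- what a class sees when fewer than two rows carry all five
  have k0 : a 5 = 0 → ∀ j, T 4 j = 2 := fun e j => by
    have h := h3 j; have h' := h11 j
    rw [h5, e] at h h'
    omega
  have k1 : a 5 = 1 → ∀ j, T 2 j = T 4 j ∧ T 3 j + 2 * T 4 j = 2 := fun e j => by
    have h := h3 j; have h' := h11 j
    rw [h5, e] at h h'
    omega
  have k2 : a 5 = 2 → ∀ j, T 1 j = 1 ∧ T 2 j = 0 ∧ T 3 j = 0 ∧ T 4 j = 0 := fun e j => by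
    have h := h3 j; have h' := h11 j
    rw [h5, e] at h h'
    omega
  rcases (by omega : a 5 = 0 ∨ a 5 = 1 ∨ a 5 = 2) with e | e | e
  · exfalso
    simp only [k0 e, Finset.sum_const, Finset.card_univ, Fintype.card_fin, smul_eq_mul] at s4
    omega
  · exfalso
    have h24 : ∑ j, T 2 j = ∑ j, T 4 j := Finset.sum_congr rfl fun j _ => (k1 e j).1
    have h34 : ∑ j, (T 3 j + 2 * T 4 j) = ∑ _j : Fin 5, 2 := Finset.sum_congr rfl fun j _ => (k1 e j).2
    rw [Finset.sum_add_distrib, ← Finset.mul_sum, s3, s4] at h34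
    simp only [Finset.sum_const, Finset.card_univ, Fintype.card_fin, smul_eq_mul] at h34
    rw [s2, s4] at h24
    omega
  · exact ⟨e, k2 e⟩

/-- No such data. -/
theorem oneSpec : OneSpec.{u} := by
  intro ι _ D
  classical
  obtain ⟨P, hP⟩ : ∃ P : ι → ℤ, ∀ i, P i = ∑ k, D.p i k := ⟨_, fun _ => rfl⟩
  choose c hc using fun i j => D.lin i j
  simp only [← hP] at hc
  have hPc : ∀ i, P i = ∑ k, c i k := fun i => by
    have := hP i
    simp only [Fin.sum_univ_five] at this ⊢
    linarith [hc i 0, hc i 1, hc i 2, hc i 3, hc i 4]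
  have hPp : ∀ j, ∑ i, P i * D.p i j = 11 := fun j => by
    simp only [hP, Finset.sum_mul]
    rw [Finset.sum_comm]
    simp only [D.orth_pp]
    revert j; decide
  have hPP : ∑ i, P i * P i = 55 := by
    calc ∑ i, P i * P i = ∑ i, ∑ k, P i * D.p i k := by
          exact Finset.sum_congr rfl fun i _ => by rw [← Finset.mul_sum, ← hP]
      _ = 55 := by rw [Finset.sum_comm]; simp only [hPp]; rfl
  have hgram : ∀ j k, ∑ i, c i j * c i k = if j = k then 3 else 2 := fun j k => by
    have h : 16 * ∑ i, c i j * c i k = 55 - 11 - 11 + if j = k then 15 else -1 := by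
      calc 16 * ∑ i, c i j * c i k = ∑ i, (P i - D.p i j) * (P i - D.p i k) := by
            rw [Finset.mul_sum]; exact Finset.sum_congr rfl fun i _ => by rw [hc, hc]; ring
        _ = ∑ i, (P i * P i - P i * D.p i j - P i * D.p i k + D.p i j * D.p i k) :=
            Finset.sum_congr rfl fun i _ => by ring
        _ = _ := by simp only [Finset.sum_add_distrib, Finset.sum_sub_distrib, hPP, hPp, D.orth_pp]
    split_ifs at h ⊢ <;> omega
  have h01 : ∀ i j, c i j = -1 ∨ c i j = 0 ∨ c i j = 1 := fun i j => by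
    have h := Finset.single_le_sum (f := fun i => c i j * c i j) (fun i _ => mul_self_nonneg _) (Finset.mem_univ i)
    rw [hgram, if_pos rfl] at h
    have : -1 ≤ c i j ∧ c i j ≤ 1 := ⟨by nlinarith, by nlinarith⟩
    omega
  have hsame : ∀ i j k, c i j * c i k = c i j * c i j * (c i k * c i k) := fun i j k => by
    by_cases hjk : j = k
    · subst hjk
      rcases h01 i j with e | e | e <;> rw [e] <;> norm_num
    · have h := Finset.single_le_sum (f := fun i => (c i j - c i k) * (c i j - c i k))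
        (fun i _ => mul_self_nonneg _) (Finset.mem_univ i)
      have h2 : ∑ i, (c i j - c i k) * (c i j - c i k) = 2 := by
        calc ∑ i, (c i j - c i k) * (c i j - c i k)
            = ∑ i, (c i j * c i j - 2 * (c i j * c i k) + c i k * c i k) :=
              Finset.sum_congr rfl fun i _ => by ring
          _ = 2 := by
              simp only [Finset.sum_add_distrib, Finset.sum_sub_distrib, ← Finset.mul_sum, hgram,
                if_neg hjk]
              norm_num
      rw [h2] at h
      rcases h01 i j with e | e | e <;> rcases h01 i k with e' | e' | e' <;> simp [e, e'] at h ⊢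
  obtain ⟨n, hn⟩ : ∃ n : ι → ℕ, ∀ i, (n i : ℤ) = ∑ k, c i k * c i k :=
    ⟨fun i => (∑ k, c i k * c i k).toNat, fun i => Int.toNat_of_nonneg (Finset.sum_nonneg fun k _ => mul_self_nonneg _)⟩
  obtain ⟨b, hb⟩ : ∃ b : ι → Fin 5 → ℕ, ∀ i j, (b i j : ℤ) = c i j * c i j :=
    ⟨fun i j => (c i j * c i j).toNat, fun i j => Int.toNat_of_nonneg (mul_self_nonneg _)⟩
  have hb1 : ∀ i j, b i j ≤ 1 := fun i j => by
    have := hb i j
    rcases h01 i j with e | e | e <;> rw [e] at this <;> omega
  have hnb : ∀ i, n i = ∑ k, b i k := fun i => by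
    zify; simp only [hn, hb]
  have hn5 : ∀ i, n i ≤ 5 := fun i => by
    rw [hnb, Fin.sum_univ_five]
    linarith [hb1 i 0, hb1 i 1, hb1 i 2, hb1 i 3, hb1 i 4]
  have hPc' : ∀ i j, P i * c i j = n i * (c i j * c i j) := fun i j => by
    rw [hPc, hn, Finset.sum_mul, Finset.sum_mul]
    exact Finset.sum_congr rfl fun k _ => hsame i k j
  have hbn : ∀ i j, b i j = 1 → 1 ≤ n i := fun i j h => by
    rw [hnb, ← h]; exact Finset.single_le_sum (fun k _ => Nat.zero_le _) (Finset.mem_univ j)
  -- the counting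
  let U : ℕ → Finset ι := fun m => univ.filter fun i => n i = m
  let T : ℕ → Fin 5 → ℕ := fun m j => ∑ i ∈ U m, b i j
  have hsplit : ∀ (j : Fin 5) (f : ι → ℤ),
      ∑ i, (b i j : ℤ) * f i = ∑ m ∈ Finset.range 6, ∑ i ∈ U m, (b i j : ℤ) * f i := fun j f =>
    (Finset.sum_fiberwise_of_maps_to (fun i _ => Finset.mem_range.2 (by have := hn5 i; omega)) _).symm
  have hU0 : ∀ j, ∑ i ∈ U 0, b i j = 0 := fun j => Finset.sum_eq_zero fun i hi => by
    by_contra h
    have := hbn i j (by have := hb1 i j; omega)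
    simp [U] at hi
    omega
  have hzero : ∀ (j : Fin 5) (f : ι → ℤ), ∑ i ∈ U 0, (b i j : ℤ) * f i = 0 := fun j f =>
    Finset.sum_eq_zero fun i hi => by
      rw [(Finset.sum_eq_zero_iff.1 (hU0 j)) i hi]; simp
  obtain ⟨ha5, hpt⟩ := sizes (T := T) (a := fun m => (U m).card) (fun m => by
      simp only [T]
      rw [Finset.sum_comm, Finset.sum_congr rfl fun i hi => ((hnb i).symm.trans (by simpa [U] using hi : n i = m))]
      rw [Finset.sum_const, smul_eq_mul, mul_comm])
    (fun j => by
      simp only [T]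
      rw [Finset.card_eq_sum_ones]
      refine Finset.sum_congr rfl fun i hi => ?_
      have h5 : n i = 5 := by simpa [U] using hi
      rw [hnb, Fin.sum_univ_five] at h5
      have := hb1 i 0; have := hb1 i 1; have := hb1 i 2; have := hb1 i 3; have := hb1 i 4
      fin_cases j <;> simp <;> omega)
    (fun j => by
      have h := hsplit j fun _ => 1
      simp only [Finset.sum_range_succ, Finset.sum_range_zero, hzero, mul_one] at h
      have e : ∑ i, (b i j : ℤ) = 3 := by simp only [hb, hgram]; simp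
      zify
      simp only [T]
      push_cast
      have h0 := hzero j fun _ => 1
      simp only [mul_one] at h0
      linarith)
    (fun j => by
      have h := hsplit j fun i => (n i : ℤ)
      simp only [Finset.sum_range_succ, Finset.sum_range_zero, hzero] at h
      have e : ∑ i, (b i j : ℤ) * n i = 11 := by
        simp only [hb, hn, Finset.mul_sum]
        rw [Finset.sum_comm]
        simp only [← hsame, hgram]
        fin_cases j <;> decide
      have hm : ∀ m, ∑ i ∈ U m, (b i j : ℤ) * n i = (m : ℤ) * ∑ i ∈ U m, (b i j : ℤ) := fun m => by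
        rw [Finset.mul_sum]
        exact Finset.sum_congr rfl fun i hi => by
          rw [show n i = m by simpa [U] using hi, mul_comm]
      simp only [hm] at h
      zify
      simp only [T]
      push_cast
      push_cast at h
      linarith)
  -- only two kinds of rows carry a `c`
  have hred : ∀ (j : Fin 5) (f : ι → ℤ),
      ∑ i, (b i j : ℤ) * f i = ∑ i ∈ U 1, (b i j : ℤ) * f i + ∑ i ∈ U 5, (b i j : ℤ) * f i := fun j f => by
    obtain ⟨-, e2, e3, e4⟩ := hpt j
    have z : ∀ m, T m j = 0 → ∑ i ∈ U m, (b i j : ℤ) * f i = 0 := fun m h => Finset.sum_eq_zero fun i hi => by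
      rw [(Finset.sum_eq_zero_iff.1 h) i hi]; simp
    rw [hsplit]
    simp only [Finset.sum_range_succ, Finset.sum_range_zero, hzero, z 2 e2, z 3 e3, z 4 e4]
    ring
  obtain ⟨A, B, hAB, hU5⟩ := Finset.card_eq_two.1 ha5
  have hA : n A = 5 := by
    have : A ∈ U 5 := by simp [hU5]
    simpa [U] using this
  have hB : n B = 5 := by
    have : B ∈ U 5 := by simp [hU5]
    simpa [U] using this
  have hfull : ∀ i, n i = 5 → ∀ j, b i j = 1 := fun i hi j => by
    rw [hnb, Fin.sum_univ_five] at hi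
    have := hb1 i 0; have := hb1 i 1; have := hb1 i 2; have := hb1 i 3; have := hb1 i 4
    fin_cases j <;> simp <;> omega
  have hcc : ∀ i, n i = 5 → ∀ j, c i j = c i 0 := fun i hi j => by
    have h := hsame i 0 j
    rw [← hb, ← hb, hfull i hi, hfull i hi] at h
    rcases h01 i j with e | e | e <;> rcases h01 i 0 with e' | e' | e' <;> simp only [e, e'] at h <;> omega
  set β := D.d A * c A 0
  set γ := D.d B * c B 0
  have hdc : ∀ j, ∑ i, D.d i * c i j = -1 := fun j => by
    have hdP : ∑ i, D.d i * P i = -5 := by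
      simp only [hP, Finset.mul_sum]
      rw [Finset.sum_comm]
      simp only [D.orth_dp]
      rfl
    have : 4 * ∑ i, D.d i * c i j = ∑ i, D.d i * P i - ∑ i, D.d i * D.p i j := by
      rw [Finset.mul_sum, ← Finset.sum_sub_distrib]
      exact Finset.sum_congr rfl fun i _ => by rw [← mul_sub, hc]; ring
    rw [hdP, D.orth_dp] at this
    omega
  have hsingle : ∀ j, ∑ i ∈ U 1, (b i j : ℤ) * (D.d i * D.d i) = (-1 - β - γ) * (-1 - β - γ) := fun j => by
    have hbc : ∀ i, (b i j : ℤ) * (D.d i * c i j) = D.d i * c i j := fun i => by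
      rw [hb]; rcases h01 i j with e | e | e <;> rw [e] <;> ring
    have h := hred j fun i => D.d i * c i j
    simp only [hbc] at h
    rw [hdc, hU5, Finset.sum_pair hAB, hcc A hA j, hcc B hB j] at h
    obtain ⟨hT1, -⟩ := hpt j
    obtain ⟨u, hu⟩ : ∃ u, (U 1).filter (fun i => b i j = 1) = {u} := Finset.card_eq_one.1 (by
      rw [Finset.card_filter]
      refine Eq.trans ?_ hT1
      exact Finset.sum_congr rfl fun i _ => by have := hb1 i j; split_ifs <;> omega)
    have hsum : ∀ f : ι → ℤ, (∀ i, b i j = 0 → f i = 0) → ∑ i ∈ U 1, f i = f u := fun f hf => by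
      rw [← Finset.sum_filter_add_sum_filter_not (U 1) (fun i => b i j = 1), hu, Finset.sum_singleton,
        Finset.sum_eq_zero (s := (U 1).filter fun i => ¬ b i j = 1) fun i hi => hf i (by
          have := hb1 i j; simp at hi; omega), add_zero]
    have hu1 : b u j = 1 := by
      have : u ∈ (U 1).filter (fun i => b i j = 1) := by simp [hu]
      simpa using (Finset.mem_filter.1 this).2
    have hcu : c u j * c u j = 1 := by rw [← hb, hu1]; rfl
    rw [hsum _ fun i hi => by rw [← hbc, hi]; simp] at h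
    rw [hsum _ fun i hi => by rw [hi]; simp, hu1, show -1 - β - γ = D.d u * c u j by linarith]
    linear_combination -(D.d u * D.d u) * hcu
  have hn1 : ∑ i ∈ U 1, D.d i * D.d i = 5 * ((-1 - β - γ) * (-1 - β - γ)) := by
    calc ∑ i ∈ U 1, D.d i * D.d i = ∑ i ∈ U 1, ∑ j, (b i j : ℤ) * (D.d i * D.d i) :=
          Finset.sum_congr rfl fun i hi => by
            rw [← Finset.sum_mul, ← Nat.cast_sum, ← hnb, show n i = 1 by simpa [U] using hi]; simp
      _ = _ := by rw [Finset.sum_comm]; simp only [hsingle]; simp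
  have hsq : ∀ i, n i = 5 → D.d i * D.d i = D.d i * c i 0 * (D.d i * c i 0) := fun i hi => by
    have : c i 0 * c i 0 = 1 := by rw [← hb, hfull i hi]; rfl
    linear_combination -(D.d i * D.d i) * this
  have hmod : ∀ i, n i = 5 → (D.d i * c i 0) % 4 = 1 := fun i hi => by
    obtain ⟨e, he⟩ := D.triv i
    rw [← hP] at he
    have h1 := hPc' i 0
    rw [← hb, hfull i hi, hi] at h1
    rw [show D.d i * c i 0 = P i * c i 0 + 4 * (e * c i 0) by linear_combination c i 0 * he, h1]
    push_cast
    omega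
  have h63 : 5 * ((-1 - β - γ) * (-1 - β - γ)) + β * β + γ * γ ≤ 63 := by
    rw [← D.orth_dd, ← hn1, add_assoc, ← hsq A hA, ← hsq B hB, ← Finset.sum_pair (f := fun i => D.d i * D.d i) hAB,
      ← hU5, ← Finset.sum_union (Finset.disjoint_filter.2 fun i _ h => by omega)]
    exact Finset.sum_le_univ_sum_of_nonneg fun i => mul_self_nonneg _
  have hsmall := small h63 (by ring) (hmod A hA) (hmod B hB)
  -- against the count
  have hbound : ∑ i, (n i : ℤ) * (D.d i * D.d i) ≤ 55 := by
    calc ∑ i, (n i : ℤ) * (D.d i * D.d i) = ∑ j, ∑ i, (b i j : ℤ) * (D.d i * D.d i) := by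
          rw [Finset.sum_comm]
          exact Finset.sum_congr rfl fun i _ => by rw [← Finset.sum_mul, ← Nat.cast_sum, ← hnb]
      _ ≤ 55 := by
          simp only [hred, hsingle, hU5, Finset.sum_pair hAB, hfull A hA, hfull B hB, Nat.cast_one, one_mul,
            hsq A hA, hsq B hB]
          simp only [Finset.sum_const, Finset.card_univ, Fintype.card_fin, nsmul_eq_mul]
          push_cast
          linarith
  have hcount : ∑ i, ((D.d i * D.d i * P i : ℤ) : ℚ) / (D.x i : ℚ) = -5 := by
    have : ∀ i, ((D.d i * D.d i * P i : ℤ) : ℚ) / (D.x i : ℚ) =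
        ∑ j, (D.d i * D.d i * D.p i j : ℚ) / (D.x i : ℚ) := fun i => by
      rw [hP]; push_cast; rw [Finset.mul_sum, Finset.sum_div]
    simp only [this]
    rw [Finset.sum_comm]
    simp only [D.count]
    simp
  have hterm : ∀ i, -(((n i : ℤ) * (D.d i * D.d i) : ℤ) : ℚ) / 12 ≤
      ((D.d i * D.d i * P i : ℤ) : ℚ) / (D.x i : ℚ) := fun i => by
    have hPn : -(n i : ℤ) ≤ P i := by
      have h : P i * P i = (n i : ℤ) * n i := by
        nth_rewrite 2 [hPc i]
        rw [Finset.mul_sum]
        nth_rewrite 2 [hn i]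
        rw [Finset.mul_sum]
        exact Finset.sum_congr rfl fun k _ => hPc' i k
      nlinarith [(n i).cast_nonneg (α := ℤ)]
    have hx : (12 : ℚ) ≤ (D.x i : ℚ) := by exact_mod_cast D.deg i
    set w : ℚ := (((n i : ℤ) * (D.d i * D.d i) : ℤ) : ℚ) with hw
    have hw0 : 0 ≤ w := by rw [hw]; push_cast; exact mul_nonneg (Nat.cast_nonneg _) (mul_self_nonneg _)
    have hle : -w ≤ ((D.d i * D.d i * P i : ℤ) : ℚ) := by
      rw [hw, ← Int.cast_neg, Int.cast_le]
      nlinarith [mul_le_mul_of_nonneg_left hPn (mul_self_nonneg (D.d i))]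
    calc -w / 12 ≤ -w / (D.x i : ℚ) := by
          rw [neg_div, neg_div, neg_le_neg_iff]
          exact div_le_div_of_nonneg_left hw0 (by norm_num) hx
      _ ≤ _ := div_le_div_of_nonneg_right hle (by linarith)
  have hsum := Finset.sum_le_sum (s := Finset.univ) fun i _ => hterm i
  rw [hcount, ← Finset.sum_div, Finset.sum_neg_distrib, ← Int.cast_sum] at hsum
  have : ((∑ i, (n i : ℤ) * (D.d i * D.d i) : ℤ) : ℚ) ≤ 55 := by exact_mod_cast hbound
  linarith

end Cfsg.Lib.Lyons.One
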